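import Groth.Agent.FibSuppVanLib.Stalk
import Groth.Agent.S16148
import Groth.Agent.S0036
import Groth.Agent.GenusZeroLib.PSpace
import Groth.Agent.HilbPolyLib.Twist
import Groth.Agent.DefClassLib.Basic
import Groth.Agent.RpushLib.Comp
import Groth.Agent.RpushLib.Sections
import Groth.Agent.QCohLib.Push
import Groth.Agent.QCohLib.OpenRestr
import Mathlib.AlgebraicGeometry.AlgClosed.Basic

/-!
# Fibre dimension of the support and vanishing of higher direct images of twists
-/

set_option autoImplicit false
set_option backward.isDefEq.respectTransparency false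
set_option backward.isDefEq.respectTransparency.types false
set_option maxHeartbeats 800000
universe u

open CategoryTheory CategoryTheory.Limits AlgebraicGeometry TopologicalSpace Opposite

noncomputable section

namespace FibSuppVanLib

variable {X Y : Scheme.{u}} (f : X ⟶ Y) [IsProper f] [IsLocallyNoetherian Y]

/-- Higher direct images vanish above the dimension of the support in the closed fibres. -/
theorem isZero_rpush [CompactSpace Y] [HasInjectiveResolutions X.Modules] (d : ℕ) (F : X.Modules)
    (hF : Coh.IsCoh F)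
    (hd : ∀ y : Y, IsClosed ({y} : Set Y) →
      topologicalKrullDim {x : X // f.base x = y ∧ x ∈ CohB1.support F} ≤ d)
    (p : ℕ) (hp : d < p) : IsZero ((Coh.Rpush f p).obj F) := by
  haveI := hF.1
  have hR : Coh.IsCoh ((Coh.Rpush f p).obj F) := Groth.Agent.S0036.result f F hF p
  refine DevissLib.isZero_of_support_empty (Set.not_nonempty_iff_eq_empty.1 fun hne => ?_)
  obtain ⟨y, hy, hyc⟩ := IsClosed.exists_closed_singleton (QCohLib.isClosed_support _ hR.2) hne
  exact hy (subsingleton_stalk_rpush f y d F hF (hd y hyc) p hp)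

omit [IsLocallyNoetherian Y] in
/-- A vanishing higher direct image kills the cohomology over affine opens. -/
theorem subsingleton_HU [HasInjectiveResolutions X.Modules] (M : X.Modules) [Coh.IsQCoh M] (n : ℕ)
    {W : Y.Opens} (hW : IsAffineOpen W) (h : IsZero ((Coh.Rpush f n).obj M)) :
    Subsingleton (QCohLib.HU ((QCohLib.toAbF X).obj M) n (f ⁻¹ᵁ W)) := by
  haveI : Subsingleton Γ((Coh.Rpush f n).obj M, W) := ⟨fun a b => by
    have h1 := congr(($(h.eq_of_src (𝟙 _) 0)).app W)
    have ha := ConcreteCategory.congr_hom h1 a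
    have hb := ConcreteCategory.congr_hom h1 b
    simp at ha hb
    rw [ha, hb]⟩
  have h' : Subsingleton (Coh.HHon X M (f ⁻¹ᵁ W) n) :=
    (RpushLib.rpushSectionsEquiv f M n hW).symm.toEquiv.subsingleton
  obtain ⟨e3⟩ := QCohLib.nonempty_HU_restrict (f ⁻¹ᵁ W).ι M n ⊤
  rw [Scheme.Opens.ι_image_top] at e3
  exact @Equiv.subsingleton _ _ ((QCohLib.hEquiv _ n).trans e3).symm.toEquiv h'

/-- The top cohomology of a restriction to a closed subscheme in one fibre vanishes with the top direct image. -/
theorem subsingleton_top [CompactSpace Y] [HasInjectiveResolutions X.Modules] (d : ℕ) (F : X.Modules)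
    (hF : Coh.IsCoh F)
    (hd : ∀ y : Y, IsClosed ({y} : Set Y) →
      topologicalKrullDim {x : X // f.base x = y ∧ x ∈ CohB1.support F} ≤ d)
    (h : IsZero ((Coh.Rpush f d).obj F)) {P : Scheme.{u}} (j : P ⟶ X) [IsClosedImmersion j]
    (y : Y) (hjy : ∀ z, f.base (j.base z) = y) :
    Subsingleton (Coh.HH P ((Scheme.Modules.pullback j).obj F) d) := by
  haveI := hF.1
  haveI : IsLocallyNoetherian X := LocallyOfFiniteType.isLocallyNoetherian f
  haveI : IsLocallyNoetherian P := LocallyOfFiniteType.isLocallyNoetherian j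
  let η := (Scheme.Modules.pullbackPushforwardAdjunction j).unit.app F
  have hG : Coh.IsCoh ((Scheme.Modules.pullback j).obj F) := ConsLib.isCoh_pullback j hF
  haveI := hG.1
  have hpG : Coh.IsCoh ((Coh.push j).obj ((Scheme.Modules.pullback j).obj F)) :=
    QCohLib.isCoh_push_finite j _ hG
  haveI : Coh.IsQCoh ((Scheme.Modules.pushforward j).obj ((Scheme.Modules.pullback j).obj F)) := hpG.1
  haveI : Epi η := DefClassLib.epi_unit j F
  have hK : Coh.IsCoh (kernel η) := QCohLib.isCoh_kernel η hF hpG.1
  haveI := hK.1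
  have hKs : CohB1.support (kernel η) ⊆ CohB1.support F := SerreGenLib.support_subset_of_mono (kernel.ι η)
  have hKd : ∀ y : Y, IsClosed ({y} : Set Y) →
      topologicalKrullDim {x : X // f.base x = y ∧ x ∈ CohB1.support (kernel η)} ≤ d := fun y hy => by
    let i : {x : X // f.base x = y ∧ x ∈ CohB1.support (kernel η)} →
        {x : X // f.base x = y ∧ x ∈ CohB1.support F} := fun t => ⟨t.1, t.2.1, hKs t.2.2⟩
    have hi : Topology.IsInducing i := Topology.IsInducing.of_comp
      (continuous_subtype_val.subtype_mk _) continuous_subtype_val Topology.IsInducing.subtypeVal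
    exact hi.topologicalKrullDim_le.trans (hd y hy)
  obtain ⟨W, hW, hyW, -⟩ := exists_isAffineOpen_mem_and_subset (show y ∈ (⊤ : Y.Opens) from trivial)
  haveI := subsingleton_HU f F d hW h
  haveI := subsingleton_HU f (kernel η) (d + 1) hW (isZero_rpush f d (kernel η) hK hKd (d + 1) (Nat.lt_succ_self d))
  let S : ShortComplex X.Modules := ShortComplex.mk (kernel.ι η) η (kernel.condition η)
  have hS : S.ShortExact :=
    { exact := ShortComplex.exact_of_f_is_kernel _ (kernelIsKernel η)
      mono_f := inferInstanceAs (Mono (kernel.ι η))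
      epi_g := inferInstanceAs (Epi η) }
  haveI : Subsingleton (QCohLib.HU (S.map (QCohLib.toAbF X)).X₂ d (f ⁻¹ᵁ W)) :=
    inferInstanceAs (Subsingleton (QCohLib.HU ((QCohLib.toAbF X).obj F) d (f ⁻¹ᵁ W)))
  haveI : Subsingleton (QCohLib.HU (S.map (QCohLib.toAbF X)).X₁ (d + 1) (f ⁻¹ᵁ W)) :=
    inferInstanceAs (Subsingleton (QCohLib.HU ((QCohLib.toAbF X).obj (kernel η)) (d + 1) (f ⁻¹ᵁ W)))
  have h3 := QCohLib.subsingleton_X₃ (QCohLib.toAbF_shortExact hS) (n := d) (U := f ⁻¹ᵁ W)
  have hpre : j ⁻¹ᵁ (f ⁻¹ᵁ W) = ⊤ := top_le_iff.mp fun z _ => by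
    change f.base (j.base z) ∈ W
    rw [hjy z]; exact hyW
  obtain ⟨e⟩ := QCohLib.nonempty_HU_push j ((Scheme.Modules.pullback j).obj F) d (f ⁻¹ᵁ W)
  rw [hpre] at e
  have h4 : Subsingleton (QCohLib.HU ((QCohLib.toAbF P).obj ((Scheme.Modules.pullback j).obj F)) d ⊤) := by
    first
    | exact e.toEquiv.subsingleton_congr.mp h3
    | exact e.toEquiv.subsingleton_congr.mpr h3
  exact @Equiv.subsingleton _ _ (QCohLib.hEquiv _ d).toEquiv h4

section Proj

variable {k : Type u} [Field k] [IsAlgClosed k] [CharZero k] {S : Scheme.{u}} (s : S ⟶ Spec (CommRingCat.of k))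
  [LocallyOfFiniteType s] [CompactSpace S] (n : ℕ)

local notation "Zp" => pullback (CohB1.ProjSpace.toSpec n k) s
local notation "pp" => pullback.snd (CohB1.ProjSpace.toSpec n k) s
local notation "qq" => pullback.fst (CohB1.ProjSpace.toSpec n k) s

theorem main (F : (Zp).Modules) (hF : Coh.IsCoh F) [HasInjectiveResolutions (Zp).Modules] :
    (∀ x : S, IsClosed ({x} : Set S) →
      topologicalKrullDim {z : ↥(Zp) // (pp).base z = x ∧ z ∈ CohB1.support F} ≤ 0) ↔
    (∀ (m : ℤ) (i : ℕ), 0 < i →
      IsZero ((Coh.Rpush (pp) i).obj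
        (CohB1.tensorMod F ((Scheme.Modules.pullback (qq)).obj (Twist.twistProjSpace n k m))))) := by
  haveI : IsProper (CohB1.ProjSpace.toSpec n k) := FormalCohLib.isProper_projToSpec n k
  haveI : IsLocallyNoetherian S := LocallyOfFiniteType.isLocallyNoetherian s
  haveI : IsProper (pp) := inferInstance
  let Fm : ℤ → (Zp).Modules := fun m =>
    CohB1.tensorMod F ((Scheme.Modules.pullback (qq)).obj (Twist.twistProjSpace n k m))
  have hinv : ∀ m : ℤ, PicF.IsInvertible ((Scheme.Modules.pullback (qq)).obj (Twist.twistProjSpace n k m)) :=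
    fun m => AmpleDevLib.isInvertible_pb _ (PicPnLib.twist_inv n k m)
  have hFm : ∀ m, Coh.IsCoh (Fm m) := fun m => SerreVanLib.isCoh_tensor hF (hinv m)
  have hsupp : ∀ m, CohB1.support (Fm m) = CohB1.support F := fun m => by
    rw [← HilbPolyLib.support_tensor (hinv m) F]
    exact DevissLib.support_iso (HilbPolyLib.swapIso _ _)
  constructor
  · intro h m i hi
    refine isZero_rpush (pp) 0 (Fm m) (hFm m) (fun x hx => ?_) i hi
    rw [hsupp m]
    exact_mod_cast h x hx
  · intro h x₀ hx₀
    by_contra hcon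
    -- closed points give sections, whose fibres are projective spaces
    have hsec : ∀ x : S, IsClosed ({x} : Set S) → ∃ j : CohB1.ProjSpace n k ⟶ Zp,
        IsClosedImmersion j ∧ j ≫ qq = 𝟙 _ ∧ Set.range j.base = (pp).base ⁻¹' {x} := by
      intro x hx
      let xs := pointOfClosedPoint s x hx
      have hxs : xs ≫ s = 𝟙 _ := pointOfClosedPoint_comp s x hx
      haveI : IsClosedImmersion xs := by
        have hr : IsClosed (Set.range xs) := by
          have : Set.range xs = {x} := Set.eq_singleton_iff_nonempty_unique_mem.mpr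
            ⟨⟨x, IsLocalRing.closedPoint k, pointOfClosedPoint_apply s x hx _⟩,
              fun y ⟨a, ha⟩ => ha ▸ pointOfClosedPoint_apply s x hx a⟩
          rw [this]; exact hx
        haveI : IsPreimmersion xs := by
          rw [show xs = Spec.map (residueFieldIsoBase s x hx).hom ≫ S.fromSpecResidueField x from rfl]
          infer_instance
        exact IsClosedImmersion.of_isPreimmersion xs hr
      let j : CohB1.ProjSpace n k ⟶ Zp := pullback.lift (𝟙 _) (CohB1.ProjSpace.toSpec n k ≫ xs)
        (by rw [Category.id_comp, Category.assoc, hxs, Category.comp_id])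
      have hj1 : j ≫ qq = 𝟙 _ := pullback.lift_fst _ _ _
      have hj2 : j ≫ pp = CohB1.ProjSpace.toSpec n k ≫ xs := pullback.lift_snd _ _ _
      have hsq : IsPullback j (CohB1.ProjSpace.toSpec n k) (pp) xs := by
        refine IsPullback.of_right ?_ hj2 (IsPullback.of_hasPullback (CohB1.ProjSpace.toSpec n k) s).flip.flip
        · rw [hj1, hxs]
          exact IsPullback.of_horiz_isIso ⟨by simp⟩
      haveI : IsClosedImmersion j := MorphismProperty.of_isPullback hsq.flip inferInstance
      refine ⟨j, inferInstance, hj1, Set.ext fun z => ⟨?_, fun hz => ?_⟩⟩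
      · rintro ⟨t, rfl⟩
        change (pp).base (j.base t) = x
        rw [← Scheme.Hom.comp_apply, hj2, Scheme.Hom.comp_apply]
        exact pointOfClosedPoint_apply s x hx _
      · obtain ⟨t, ht, -⟩ := Scheme.Pullback.exists_preimage_pullback (f := pp) (g := xs) z (IsLocalRing.closedPoint k)
          (hz.trans (pointOfClosedPoint_apply s x hx _).symm)
        refine ⟨hsq.isoPullback.inv.base t, ?_⟩
        rw [← Scheme.Hom.comp_apply, hsq.isoPullback_inv_fst]
        exact ht
    haveI := hF.1
    choose jx hjc hjq hjr using hsec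
    have hsj : ∀ (x : S) (hx : IsClosed ({x} : Set S)),
        topologicalKrullDim {z : ↥(Zp) // (pp).base z = x ∧ z ∈ CohB1.support F} =
          topologicalKrullDim ↥(CohB1.support ((Scheme.Modules.pullback (jx x hx)).obj F)) := by
      intro x hx
      haveI := hjc x hx
      rw [Groth.Agent.S4357.result (jx x hx) F hF.2]
      let e : ↥((jx x hx).base ⁻¹' CohB1.support F) → {z : ↥(Zp) // (pp).base z = x ∧ z ∈ CohB1.support F} :=
        fun t => ⟨(jx x hx).base t.1, (hjr x hx).subset ⟨t.1, rfl⟩, t.2⟩
      have he : Topology.IsEmbedding e := Topology.IsEmbedding.of_comp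
        (((jx x hx).continuous.comp continuous_subtype_val).subtype_mk _) continuous_subtype_val
        ((jx x hx).isEmbedding.comp Topology.IsEmbedding.subtypeVal)
      have hes : Function.Surjective e := fun z => by
        obtain ⟨t, ht⟩ := (hjr x hx).superset z.2.1
        exact ⟨⟨t, by rw [Set.mem_preimage, ht]; exact z.2.2⟩, Subtype.ext ht⟩
      exact (IsHomeomorph.topologicalKrullDim_eq e (isHomeomorph_iff_isEmbedding_surjective.mpr ⟨he, hes⟩)).symm
    have hbd : ∀ (x : S), IsClosed ({x} : Set S) →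
        topologicalKrullDim {z : ↥(Zp) // (pp).base z = x ∧ z ∈ CohB1.support F} ≤ (n : ℕ) := fun x hx => by
      rw [hsj x hx]
      exact (topologicalKrullDim_subspace_le _ _).trans (GenusZeroLib.dim_projSpace (n := n) (k := k)).le
    classical
    have hex : ∃ d : ℕ, ∀ x : S, IsClosed ({x} : Set S) →
        topologicalKrullDim {z : ↥(Zp) // (pp).base z = x ∧ z ∈ CohB1.support F} ≤ (d : ℕ) := ⟨n, hbd⟩
    let d := Nat.find hex
    have hd := Nat.find_spec hex
    have hd1 : 1 ≤ d := by
      rcases Nat.eq_zero_or_pos d with h0 | h0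
      · exact absurd (by simpa [d, h0] using (show _ ≤ ((d : ℕ) : WithBot ℕ∞) from hd x₀ hx₀)) hcon
      · exact h0
    obtain ⟨x, hx, hxd⟩ : ∃ (x : S) (_ : IsClosed ({x} : Set S)),
        topologicalKrullDim {z : ↥(Zp) // (pp).base z = x ∧ z ∈ CohB1.support F} = (d : ℕ) := by
      by_contra hne
      push Not at hne
      refine Nat.find_min hex (m := d - 1) (by omega) fun x hx => ?_
      have hlt := lt_of_le_of_ne (hd x hx) (hne x hx)
      exact ENat.WithBot.lt_add_one_iff.mp (by
        rw [show ((d - 1 : ℕ) : WithBot ℕ∞) + 1 = ((d : ℕ) : WithBot ℕ∞) by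
          rw [← Nat.cast_add_one, Nat.sub_add_cancel hd1]]
        exact hlt)
    haveI := hjc x hx
    have hG : Coh.IsCoh ((Scheme.Modules.pullback (jx x hx)).obj F) :=
      ConsLib.isCoh_pullback (jx x hx) hF
    obtain ⟨m, hm⟩ := Groth.Agent.S16148.result k n _ hG d hd1 ((hsj x hx).symm.trans hxd)
    refine absurd ?_ (not_subsingleton_iff_nontrivial.mpr hm)
    have hsub := subsingleton_top (pp) d (Fm m) (hFm m) (fun y hy => by rw [hsupp m]; exact hd y hy)
      (h m d hd1) (jx x hx) x (fun z => (hjr x hx).subset ⟨z, rfl⟩)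
    haveI := KFlatLib.isIso_pullθ (jx x hx) F ((Scheme.Modules.pullback (qq)).obj (Twist.twistProjSpace n k m))
    let e₁ : (Scheme.Modules.pullback (jx x hx)).obj (Fm m) ≅
        CohB1.tensorMod ((Scheme.Modules.pullback (jx x hx)).obj F) (Twist.twistProjSpace n k m) :=
      asIso (KFlatLib.pullθ (jx x hx) F ((Scheme.Modules.pullback (qq)).obj (Twist.twistProjSpace n k m))) ≪≫
        HilbPolyLib.congrRight _ ((Scheme.Modules.pullbackComp (jx x hx) (qq)).app _ ≪≫
          (Scheme.Modules.pullbackCongr (hjq x hx)).app _ ≪≫ (Scheme.Modules.pullbackId _).app _)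
    exact SerreVanLib.subsingleton_HH_of_iso e₁.symm d hsub

end Proj

end FibSuppVanLib

end
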