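import Groth.Agent.FibVanLib.Noeth
import Groth.Agent.SerreGenLib.Main
import Groth.Agent.S4357

/-!
# Vanishing of higher direct images above the dimension of the support in the fibres
-/

set_option autoImplicit false
universe u

open CategoryTheory CategoryTheory.Limits AlgebraicGeometry TopologicalSpace Opposite

namespace FibSuppVanLib

variable {X Y : Scheme.{u}} (f : X ⟶ Y) [IsProper f] [IsLocallyNoetherian Y]

/-- Vanishing above the dimension of the support in the fibre. -/
theorem subsingleton_stalk_rpush [HasInjectiveResolutions X.Modules] (y : Y) (d : ℕ) (F : X.Modules)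
    (hF : Coh.IsCoh F) (hd : topologicalKrullDim {x : X // f.base x = y ∧ x ∈ CohB1.support F} ≤ d)
    (p : ℕ) (hp : d < p) :
    Subsingleton (((Coh.Rpush f p).obj F).presheaf.stalk y) := by
  let B : Type u := Y.presheaf.stalk y
  let m : Ideal B := IsLocalRing.maximalIdeal B
  let X₁ : Scheme.{u} := pullback f (Y.fromSpecStalk y)
  letI : X₁.Over (Spec (CommRingCat.of B)) := ⟨pullback.snd f (Y.fromSpecStalk y)⟩
  let g : X₁ ⟶ X := pullback.fst f (Y.fromSpecStalk y)
  have hsq : IsPullback g (X₁ ↘ Spec (CommRingCat.of B)) f (Y.fromSpecStalk y) :=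
    IsPullback.of_hasPullback _ _
  obtain ⟨hfin, ⟨c⟩⟩ := FibVanLib.stalk_formal_functions f F hF y p X₁ g hsq
  have : IsProper (X₁ ↘ Spec (CommRingCat.of B)) := MorphismProperty.of_isPullback hsq inferInstance
  have : IsLocallyNoetherian X₁ := LocallyOfFiniteType.isLocallyNoetherian (X₁ ↘ Spec (CommRingCat.of B))
  have : CompactSpace X₁ := QuasiCompact.compactSpace_of_compactSpace (X₁ ↘ Spec (CommRingCat.of B))
  have : IsNoetherian X₁ := {}
  have hP : Coh.IsCoh ((Scheme.Modules.pullback g).obj F) := ConsLib.isCoh_pullback g hF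
  -- the closed fibre
  let T : Set X₁ := (X₁ ↘ Spec (CommRingCat.of B)) ⁻¹' PrimeSpectrum.zeroLocus (m : Set B)
  have hT : IsClosed T := (PrimeSpectrum.isClosed_zeroLocus _).preimage
    (X₁ ↘ Spec (CommRingCat.of B)).continuous
  have hmem : ∀ t : T, f (g t.1) = y := fun t => by
    have h1 : (X₁ ↘ Spec (CommRingCat.of B)) t.1 = IsLocalRing.closedPoint B :=
      PrimeSpectrum.ext ((IsLocalRing.maximalIdeal.isMaximal B).eq_of_le
        (PrimeSpectrum.isPrime _).ne_top t.2).symm
    have h2 := congrArg (fun φ : X₁ ⟶ Y => φ t.1) hsq.w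
    simp only [Scheme.Hom.comp_apply] at h2
    rw [h2, h1]
    exact Scheme.fromSpecStalk_closedPoint
  have hemb : Topology.IsEmbedding g := by
    have : IsPreimmersion g := MorphismProperty.of_isPullback hsq.flip inferInstance
    exact g.isEmbedding
  have : Coh.IsQCoh F := hF.1
  let T' : Set X₁ := T ∩ g ⁻¹' CohB1.support F
  have hT' : IsClosed T' := hT.inter ((QCohLib.isClosed_support F hF.2).preimage g.continuous)
  have hdim : topologicalKrullDim T' ≤ d := by
    let j : T' → {x : X // f.base x = y ∧ x ∈ CohB1.support F} :=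
      fun t => ⟨g t.1, hmem ⟨t.1, t.2.1⟩, t.2.2⟩
    have hc : Continuous j :=
      (g.continuous.comp continuous_subtype_val).subtype_mk _
    have hj : Topology.IsInducing j :=
      Topology.IsInducing.of_comp hc continuous_subtype_val
        (hemb.isInducing.comp Topology.IsInducing.subtypeVal)
    exact hj.topologicalKrullDim_le.trans hd
  have hvan : ∀ n, Subsingleton (Formal.HHmodPow m ((Scheme.Modules.pullback g).obj F) p n) := fun n => by
    have : Coh.IsQCoh ((Scheme.Modules.pullback g).obj F) := hP.1
    have : Coh.IsQCoh (Formal.modPow m (n + 1) ((Scheme.Modules.pullback g).obj F)) :=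
      FormalLib.isQCoh_modPow _ m (n + 1)
    refine CurvLib.subsingleton_HH_of_support _ hT' (Set.subset_inter (FibVanLib.support_modPow_subset m (n + 1) _) ?_)
      hdim p hp
    rw [← Groth.Agent.S4357.result g F hF.2]
    exact SerreGenLib.support_subset_of_epi (Formal.modPowπ m (n + 1) ((Scheme.Modules.pullback g).obj F))
  have hlim : Subsingleton (Formal.HHlim m ((Scheme.Modules.pullback g).obj F) p) :=
    ⟨fun a b => Subtype.ext (funext fun n => (hvan n).elim _ _)⟩
  have hc : Subsingleton (AdicCompletion m (((Coh.Rpush f p).obj F).presheaf.stalk y)) :=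
    c.toEquiv.subsingleton
  have h1 := (AdicCompletion.eval_surjective m (((Coh.Rpush f p).obj F).presheaf.stalk y) 1).subsingleton
  refine Submodule.subsingleton_iff B |>.mp (subsingleton_of_bot_eq_top ?_)
  refine (Submodule.eq_bot_of_le_smul_of_le_jacobson_bot m _ hfin.fg_top (fun x _ => ?_)
    (IsLocalRing.maximalIdeal_le_jacobson _)).symm
  have h2 := (Submodule.Quotient.mk_eq_zero (m ^ 1 • ⊤ : Submodule B
    (((Coh.Rpush f p).obj F).presheaf.stalk y))).mp (h1.elim (Submodule.Quotient.mk x) 0)
  rwa [pow_one] at h2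

end FibSuppVanLib
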